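import Cfsg.Agent.BHZ.Nil.Cut2

/-!
# S4817, FS / FO: the decomposition of the natural module under `B = ⟨z, b⟩ ≅ p × p`

`gen z b i` (`i : Option (ZMod p)`) are generators of the `p + 1` subgroups of order `p`, `E0` is the projection onto
the fixed space of `B`, `W i` the projection onto `V^{gen i} ∩ [V, B]`.
-/

set_option autoImplicit false
set_option linter.unusedSectionVars false

namespace Cfsg.Agent.TO.FO

open Cfsg.Agent.BHZ.Nil

section

variable {F : Type*} [Field F] {A : Type*} [Ring A] [Algebra F A]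

theorem cut_pow {ε g : A} (hε : ε * ε = ε) (hg : Commute g ε) (n : ℕ) :
    (g * ε + (1 - ε)) ^ n = g ^ n * ε + (1 - ε) := by
  induction n with
  | zero => simp
  | succ n ih => rw [pow_succ, ih, cut_mul hε hg, pow_succ]

theorem av_cut {N : ℕ} (hN : (N : F) ≠ 0) {ε g : A} (hε : ε * ε = ε) (hg : Commute g ε) :
    av F N (g * ε + (1 - ε)) = av F N g * ε + (1 - ε) := by
  rw [av, av, Finset.sum_congr rfl fun i _ => cut_pow hε hg i, Finset.sum_add_distrib, smul_add, Finset.sum_const,
    Finset.card_range, ← Nat.cast_smul_eq_nsmul F, smul_smul, inv_mul_cancel₀ hN, one_smul, smul_mul_assoc,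
    Finset.sum_mul]

theorem av_mem {N : ℕ} {S : Subalgebra F A} {h : A} (hh : h ∈ S) : av F N h ∈ S :=
  S.smul_mem (S.sum_mem fun i _ => S.pow_mem hh i) _

theorem av_mul {N : ℕ} {h : A} (hh : h ^ N = 1) : av F N h * h = av F N h := by
  rw [← (commute_av (Commute.refl h)).eq, mul_av hh]

/-- `1 - av h` is a multiple of `h - 1` -/
theorem exists_one_sub_av {N : ℕ} (hN : (N : F) ≠ 0) (h : A) :
    ∃ T : A, Commute T h ∧ 1 - av F N h = (h - 1) * T := by
  refine ⟨-((N : F)⁻¹ • ∑ i ∈ Finset.range N, ∑ l ∈ Finset.range i, h ^ l), ?_, ?_⟩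
  · exact (Commute.smul_left (Commute.sum_left _ _ _ fun i _ => Commute.sum_left _ _ _ fun l _ =>
      (Commute.refl h).pow_left l) _).neg_left
  · rw [mul_neg, mul_smul_comm, Finset.mul_sum, Finset.sum_congr rfl fun i _ => mul_geom_sum h i,
      Finset.sum_sub_distrib, smul_sub, Finset.sum_const, Finset.card_range, ← Nat.cast_smul_eq_nsmul F, smul_smul,
      inv_mul_cancel₀ hN, one_smul, neg_sub, av]

theorem eq_one_of_av {N : ℕ} {h : A} (hh : h ^ N = 1) (h1 : av F N h = 1) : h = 1 := by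
  have := mul_av (F := F) hh
  rwa [h1, mul_one] at this

end

variable {p : ℕ} [hp : Fact p.Prime] {A : Type*} [Ring A]

/-- generators of the subgroups of order `p` of `⟨z, b⟩` -/
def gen (z b : Aˣ) : Option (ZMod p) → Aˣ
  | none => z
  | some k => b * zt z (-k)

theorem gen_realised : True := by
  have := @gen.eq_def.{0}
  have := @gen.eq_1.{0}
  have := @gen.eq_2.{0}
  trivial

theorem gen_none (z b : Aˣ) : gen z b (none : Option (ZMod p)) = z := rfl

theorem gen_some (z b : Aˣ) (k : ZMod p) : gen z b (some k) = b * zt z (-k) := rfl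

variable (p) (F : Type*) [Field F] [Algebra F A]

/-- the projection onto the fixed space of `⟨z, b⟩` -/
noncomputable def E0 (z b : Aˣ) : A := av F p (z : A) * av F p (b : A)

/-- two commuting elements killed by `p` -/
structure Pair (z b : Aˣ) : Prop where
  hF : (p : F) ≠ 0
  hz : z ^ p = 1
  hb : b ^ p = 1
  comm : Commute z b

variable {p}

/-- the projection onto the fixed vectors of `gen i` in `[V, B]` -/
noncomputable def W (z b : Aˣ) (i : Option (ZMod p)) : A := av F p (gen z b i : A) - E0 p F z b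

variable {F} {z b : Aˣ}

theorem gen_mem {H : Subgroup Aˣ} (hz : z ∈ H) (hb : b ∈ H) (i : Option (ZMod p)) : gen z b i ∈ H := by
  rcases i with _ | k
  · exact hz
  · exact H.mul_mem hb (H.pow_mem hz _)

theorem gen_ne_one (hz : z ≠ 1) (hb : b ∉ Subgroup.zpowers z) (i : Option (ZMod p)) : gen z b i ≠ 1 := by
  rcases i with _ | k
  · exact hz
  · intro h
    apply hb
    rw [show b = (zt z (-k))⁻¹ from eq_inv_of_mul_eq_one_left h]
    exact inv_mem (Subgroup.pow_mem _ (Subgroup.mem_zpowers z) _)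

theorem commute_gen {g : A} (hz : Commute g z) (hb : Commute g b) (i : Option (ZMod p)) :
    Commute g (gen z b i : Aˣ) := by
  rcases i with _ | k
  · exact hz
  · change Commute g ((b * zt z (-k) : Aˣ) : A)
    rw [Units.val_mul, zt, Units.val_pow_eq_pow_val]
    exact hb.mul_right (hz.pow_right _)

theorem commute_E0 {g : A} (hz : Commute g z) (hb : Commute g b) : Commute g (E0 p F z b) :=
  (commute_av hz).mul_right (commute_av hb)

theorem commute_W {g : A} (hz : Commute g z) (hb : Commute g b) (i : Option (ZMod p)) : Commute g (W F z b i) :=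
  (commute_av (commute_gen hz hb i)).sub_right (commute_E0 hz hb)

theorem val_gen_mem {S : Subalgebra F A} (hz : (z : A) ∈ S) (hb : (b : A) ∈ S) (i : Option (ZMod p)) :
    ((gen z b i : Aˣ) : A) ∈ S := by
  rcases i with _ | k
  · exact hz
  · change ((b * zt z (-k) : Aˣ) : A) ∈ S
    rw [Units.val_mul, zt, Units.val_pow_eq_pow_val]
    exact S.mul_mem hb (S.pow_mem hz _)

theorem E0_mem {S : Subalgebra F A} (hz : (z : A) ∈ S) (hb : (b : A) ∈ S) : E0 p F z b ∈ S :=
  S.mul_mem (av_mem hz) (av_mem hb)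

theorem W_mem {S : Subalgebra F A} (hz : (z : A) ∈ S) (hb : (b : A) ∈ S) (i : Option (ZMod p)) : W F z b i ∈ S :=
  S.sub_mem (av_mem (val_gen_mem hz hb i)) (E0_mem hz hb)

theorem gen_fix {y : A} (hz : (z : A) * y = y) (hb : (b : A) * y = y) (i : Option (ZMod p)) :
    ((gen z b i : Aˣ) : A) * y = y := by
  rcases i with _ | k
  · exact hz
  · change ((b * zt z (-k) : Aˣ) : A) * y = y
    have h1 : ∀ n : ℕ, (z : A) ^ n * y = y := fun n => by
      induction n with
      | zero => simp
      | succ n ih => rw [pow_succ, mul_assoc, hz, ih]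
    rw [Units.val_mul, zt, Units.val_pow_eq_pow_val, mul_assoc, h1, hb]

namespace Pair

variable (h : Pair p F z b)
include h

theorem gen_pow (i : Option (ZMod p)) : gen z b i ^ p = 1 := by
  rcases i with _ | k
  · exact h.hz
  · exact pow_bz h.hb h.hz h.comm _

theorem zb : Commute (z : A) (b : A) := Commute.units_val h.comm

theorem z_gen (i : Option (ZMod p)) : Commute (z : A) (gen z b i : Aˣ) := commute_gen (Commute.refl _) h.zb i

theorem b_gen (i : Option (ZMod p)) : Commute (b : A) (gen z b i : Aˣ) := commute_gen h.zb.symm (Commute.refl _) i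

theorem gen_gen (i j : Option (ZMod p)) : Commute ((gen z b i : Aˣ) : A) (gen z b j : Aˣ) :=
  commute_gen (h.z_gen i).symm (h.b_gen i).symm j

theorem gen_W (i j : Option (ZMod p)) : Commute ((gen z b i : Aˣ) : A) (W F z b j) :=
  commute_W (h.z_gen i).symm (h.b_gen i).symm j

theorem z_mul_E0 : (z : A) * E0 p F z b = E0 p F z b := by rw [E0, ← mul_assoc, mul_av (val_pow_one h.hz)]

theorem b_mul_E0 : (b : A) * E0 p F z b = E0 p F z b := by
  rw [E0, ← mul_assoc, (commute_av h.zb.symm).eq, mul_assoc, mul_av (val_pow_one h.hb)]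

theorem gen_mul_E0 (i : Option (ZMod p)) : ((gen z b i : Aˣ) : A) * E0 p F z b = E0 p F z b :=
  gen_fix h.z_mul_E0 h.b_mul_E0 i

theorem E0_mul_of_fix {y : A} (hz : (z : A) * y = y) (hb : (b : A) * y = y) : E0 p F z b * y = y := by
  rw [E0, mul_assoc, av_mul_of_fix h.hF hb, av_mul_of_fix h.hF hz]

theorem E0_idem : E0 p F z b * E0 p F z b = E0 p F z b := h.E0_mul_of_fix h.z_mul_E0 h.b_mul_E0

theorem av_mul_E0 (i : Option (ZMod p)) : av F p ((gen z b i : Aˣ) : A) * E0 p F z b = E0 p F z b :=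
  av_mul_of_fix h.hF (h.gen_mul_E0 i)

theorem E0_mul_av (i : Option (ZMod p)) : E0 p F z b * av F p ((gen z b i : Aˣ) : A) = E0 p F z b := by
  rw [(commute_av (commute_E0 (h.z_gen i).symm (h.b_gen i).symm).symm).eq, h.av_mul_E0]

/-- two different generators fix only what `B` fixes -/
theorem fix_of_two {i j : Option (ZMod p)} (hij : i ≠ j) {y : A} (hi : ((gen z b i : Aˣ) : A) * y = y)
    (hj : ((gen z b j : Aˣ) : A) * y = y) : (z : A) * y = y ∧ (b : A) * y = y := by
  have key : ∀ k : ZMod p, (z : A) * y = y → ((b * zt z (-k) : Aˣ) : A) * y = y → (b : A) * y = y := by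
    intro k h1 h2
    have h3 : ∀ n : ℕ, (z : A) ^ n * y = y := fun n => by
      induction n with
      | zero => simp
      | succ n ih => rw [pow_succ, mul_assoc, h1, ih]
    rwa [Units.val_mul, zt, Units.val_pow_eq_pow_val, mul_assoc, h3] at h2
  rcases i with _ | i <;> rcases j with _ | j
  · exact absurd rfl hij
  · exact ⟨hi, key j hi hj⟩
  · exact ⟨hj, key i hj hi⟩
  · have h1 : b * zt z (-j) = zt z (i - j) * (b * zt z (-i)) := by
      rw [← mul_assoc, (commute_zt h.comm _).eq, mul_assoc, ← zt_add h.hz]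
      congr 2
      ring
    have h2 : (zt z (i - j) : A) * y = y := by
      have h3 : ((b * zt z (-j) : Aˣ) : A) * y = y := hj
      have h4 : ((b * zt z (-i) : Aˣ) : A) * y = y := hi
      rwa [h1, Units.val_mul, mul_assoc, h4] at h3
    have h3 := fix_of_zt h.hz (sub_ne_zero.2 fun e => hij (congrArg some e)) h2
    exact ⟨h3, key i h3 hi⟩

theorem av_mul_av {i j : Option (ZMod p)} (hij : i ≠ j) :
    av F p ((gen z b i : Aˣ) : A) * av F p ((gen z b j : Aˣ) : A) = E0 p F z b := by
  have h1 := h.fix_of_two hij (y := av F p ((gen z b i : Aˣ) : A) * av F p ((gen z b j : Aˣ) : A))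
    (by rw [← mul_assoc, mul_av (val_pow_one (h.gen_pow i))])
    (by rw [← mul_assoc, (commute_av (h.gen_gen j i)).eq, mul_assoc, mul_av (val_pow_one (h.gen_pow j))])
  rw [← h.E0_mul_of_fix h1.1 h1.2, ← mul_assoc, h.E0_mul_av, h.E0_mul_av]

theorem av_idem' (i : Option (ZMod p)) :
    av F p ((gen z b i : Aˣ) : A) * av F p ((gen z b i : Aˣ) : A) = av F p ((gen z b i : Aˣ) : A) :=
  av_idem h.hF (val_pow_one (h.gen_pow i))

theorem E0_mul_W (i : Option (ZMod p)) : E0 p F z b * W F z b i = 0 := by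
  rw [W, mul_sub, h.E0_mul_av, h.E0_idem, sub_self]

theorem W_mul_E0 (i : Option (ZMod p)) : W F z b i * E0 p F z b = 0 := by
  rw [W, sub_mul, h.av_mul_E0, h.E0_idem, sub_self]

theorem gen_mul_W (i : Option (ZMod p)) : ((gen z b i : Aˣ) : A) * W F z b i = W F z b i := by
  rw [W, mul_sub, mul_av (val_pow_one (h.gen_pow i)), h.gen_mul_E0]

theorem av_mul_W_self (i : Option (ZMod p)) : av F p ((gen z b i : Aˣ) : A) * W F z b i = W F z b i :=
  av_mul_of_fix h.hF (h.gen_mul_W i)

/-- `gen j` has no fixed vectors on `W i` -/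
theorem av_mul_W {i j : Option (ZMod p)} (hij : j ≠ i) : av F p ((gen z b j : Aˣ) : A) * W F z b i = 0 := by
  rw [W, mul_sub, h.av_mul_av hij, h.av_mul_E0, sub_self]

theorem W_idem (i : Option (ZMod p)) : W F z b i * W F z b i = W F z b i := by
  conv_lhs => enter [1]; rw [W]
  rw [sub_mul, h.av_mul_W_self, h.E0_mul_W, sub_zero]

theorem W_mul_W {i j : Option (ZMod p)} (hij : i ≠ j) : W F z b i * W F z b j = 0 := by
  conv_lhs => enter [1]; rw [W]
  rw [sub_mul, h.av_mul_W hij, h.E0_mul_W, sub_zero]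

theorem W_eq {i j : Option (ZMod p)} (hij : i ≠ j) :
    W F z b i = av F p ((gen z b i : Aˣ) : A) * (1 - av F p ((gen z b j : Aˣ) : A)) := by
  rw [mul_sub, mul_one, h.av_mul_av hij, W]

/-- **the decomposition** -/
theorem sum_W : E0 p F z b + ∑ i : Option (ZMod p), W F z b i = 1 := by
  have h1 : ∀ k : ZMod p, W F z b (some k) = Fk F b z k := fun k => h.W_eq (j := none) (Option.some_ne_none k)
  rw [Fintype.sum_option, Finset.sum_congr rfl fun k _ => h1 k, sum_Fk h.hF h.hz h.comm, W]
  change _ + (av F p (z : A) - _ + _) = _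
  abel

/-- at least two components are nonzero -/
theorem exists_other (hz : z ≠ 1) (hb : b ∉ Subgroup.zpowers z) (i : Option (ZMod p)) :
    ∃ j, j ≠ i ∧ W F z b j ≠ 0 := by
  by_contra hc
  push Not at hc
  have h1 := h.sum_W
  rw [Finset.sum_eq_single i (fun j _ hj => hc j hj) (fun hi => absurd (Finset.mem_univ i) hi), W,
    add_sub_cancel] at h1
  exact gen_ne_one hz hb i (Units.ext (eq_one_of_av (val_pow_one (h.gen_pow i)) h1))

theorem two_W (hz : z ≠ 1) (hb : b ∉ Subgroup.zpowers z) :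
    ∃ i j : Option (ZMod p), i ≠ j ∧ W F z b i ≠ 0 ∧ W F z b j ≠ 0 := by
  obtain ⟨i, -, hi⟩ := h.exists_other hz hb none
  obtain ⟨j, hji, hj⟩ := h.exists_other hz hb i
  exact ⟨j, i, hji, hj, hi⟩

/-- the cut to `W i` of an element of `Γ` which commutes with `B` -/
theorem exists_cut {Γ : Subgroup Aˣ} (hΓ : CutClosed p F Γ) (hz : z ∈ Γ) (hb : b ∈ Γ) (i : Option (ZMod p))
    {g : Aˣ} (hg : g ∈ Γ) (gz : Commute (g : A) z) (gb : Commute (g : A) b) :
    ∃ c ∈ Γ, (c : A) = g * W F z b i + (1 - W F z b i) := by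
  obtain ⟨j, hj⟩ : ∃ j : Option (ZMod p), i ≠ j := by
    rcases i with _ | k
    · exact ⟨some 0, (Option.some_ne_none _).symm⟩
    · exact ⟨none, Option.some_ne_none _⟩
  obtain ⟨c, hc, hc'⟩ := hΓ.good (gen_mem hz hb i) (h.gen_pow i) g hg (commute_av (commute_gen gz gb i))
  have h1 : Commute (av F p ((gen z b i : Aˣ) : A)) (av F p ((gen z b j : Aˣ) : A)) :=
    commute_av (commute_av (h.gen_gen j i)).symm
  obtain ⟨d, hd, hd'⟩ := (hΓ.good (gen_mem hz hb j) (h.gen_pow j)).one_sub c hc (by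
    rw [hc']
    refine (Commute.one_right _).sub_right (Commute.add_left (Commute.mul_left ?_ h1) ?_)
    · exact commute_av (commute_gen gz gb j)
    · exact (Commute.one_left _).sub_left h1)
  refine ⟨d, hd, ?_⟩
  rw [hd', hc', h.W_eq hj]
  noncomm_ring

/-- the element `u` acting as `gen j` on `W i` and trivially on the complement -/
theorem exists_u {Γ : Subgroup Aˣ} (hΓ : CutClosed p F Γ) (hz : z ∈ Γ) (hb : b ∈ Γ) {i j : Option (ZMod p)}
    (hij : j ≠ i) : ∃ u ∈ Γ, (u : A) = gen z b j * W F z b i + (1 - W F z b i) ∧ u ^ p = 1 ∧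
      av F p (u : A) = 1 - W F z b i := by
  obtain ⟨u, hu, hu'⟩ := h.exists_cut hΓ hz hb i (gen_mem hz hb j) (h.z_gen j).symm (h.b_gen j).symm
  refine ⟨u, hu, hu', Units.ext ?_, ?_⟩
  · rw [Units.val_pow_eq_pow_val, hu', cut_pow (h.W_idem i) (h.gen_W j i), val_pow_one (h.gen_pow j), one_mul,
      add_sub_cancel, Units.val_one]
  · rw [hu', av_cut h.hF (h.W_idem i) (h.gen_W j i), h.av_mul_W hij, zero_add]

/-- every element of `Γ` commuting with `W i` can be cut -/
theorem good_W {Γ : Subgroup Aˣ} (hΓ : CutClosed p F Γ) (hz : z ∈ Γ) (hb : b ∈ Γ) (i : Option (ZMod p)) :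
    Good Γ (W F z b i) := by
  obtain ⟨j, hj⟩ : ∃ j : Option (ZMod p), j ≠ i := by
    rcases i with _ | k
    · exact ⟨some 0, Option.some_ne_none _⟩
    · exact ⟨none, (Option.some_ne_none _).symm⟩
  obtain ⟨u, hu, -, h2, h3⟩ := h.exists_u hΓ hz hb hj
  have := (hΓ.good hu h2).one_sub
  rwa [h3, sub_sub_cancel] at this

end Pair

end Cfsg.Agent.TO.FO
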