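import Cfsg.Agent.TO.Defs
import Cfsg.Agent.TO.FO.Dec
import Mathlib.LinearAlgebra.Matrix.Rank

/-!
# S4817, FS / FO: ranks, the span principle, matrix covers

* `rank_map_equiv`, `rank_conj`, `rank_add_of_idem`, `rank_sub_one` (`rank (u - 1) = rank (1 - av u)`);
* `span_KK`, `bicomm_KK` : the span principle;
* `Semi j π` : the automorphisms of `X` which lift to a semilinear automorphism of `Y`; `Semi.rank_eq`;
* `Frame` : `X ← Y ↪ Γ ≤ GL`; `Frame.exists_pair`, `Frame.exists_u`, `Frame.not_pure`.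
-/

set_option autoImplicit false
set_option linter.unusedSectionVars false

namespace Cfsg.Agent.TO.FO

open Cfsg Matrix Cfsg.Agent.BHZ.Nil

section rank

variable {F : Type*} [Field F] {ι : Type*} [Fintype ι] [DecidableEq ι]

theorem rank_map_equiv (σ : F ≃+* F) (M : Matrix ι ι F) : (M.map σ).rank = M.rank := by
  obtain ⟨V, U, e, hV, hU, h⟩ := exists_rank_normal_form M
  have h1 : (V.map σ) * (M.map σ) * (U.map σ) = V * M * U := by
    rw [← Matrix.map_mul, ← Matrix.map_mul, h]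
    ext i j
    rw [Matrix.map_apply, Matrix.submatrix_apply]
    rcases e i with a | a <;> rcases e j with b | b
    · rw [fromBlocks_apply₁₁, Matrix.one_apply]
      split_ifs <;> simp
    · rw [fromBlocks_apply₁₂]; simp
    · rw [fromBlocks_apply₂₁]; simp
    · rw [fromBlocks_apply₂₂]; simp
  have hV' : IsUnit (V.map σ).det := by
    have := ((isUnit_iff_isUnit_det _).1 hV).map (σ : F →+* F)
    rwa [RingHom.map_det] at this
  have hU' : IsUnit (U.map σ).det := by
    have := ((isUnit_iff_isUnit_det _).1 hU).map (σ : F →+* F)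
    rwa [RingHom.map_det] at this
  rw [← rank_mul_eq_right_of_isUnit_det (V.map σ) (M.map σ) hV', ← rank_mul_eq_left_of_isUnit_det (U.map σ) _ hU', h1,
    rank_mul_eq_left_of_isUnit_det U _ ((isUnit_iff_isUnit_det _).1 hU),
    rank_mul_eq_right_of_isUnit_det V M ((isUnit_iff_isUnit_det _).1 hV)]

theorem rank_conj (g : GL ι F) (M : Matrix ι ι F) :
    ((g : Matrix ι ι F) * M * ((g⁻¹ : GL ι F) : Matrix ι ι F)).rank = M.rank := by
  rw [rank_mul_eq_left_of_isUnit_det _ _ ((isUnit_iff_isUnit_det _).1 (g⁻¹).isUnit),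
    rank_mul_eq_right_of_isUnit_det _ _ ((isUnit_iff_isUnit_det _).1 g.isUnit)]

theorem eq_zero_of_rank {M : Matrix ι ι F} (h : M.rank = 0) : M = 0 := by
  rw [Matrix.rank, Submodule.finrank_eq_zero, LinearMap.range_eq_bot] at h
  exact Matrix.toLin'.injective (by rw [map_zero]; exact h)

/-- block sums -/
theorem rank_add_of_idem {ε X Y : Matrix ι ι F} (h1 : ε * X = X) (h2 : X * ε = X) (h3 : ε * Y = 0) (h4 : Y * ε = 0) :
    (X + Y).rank = X.rank + Y.rank := by
  have e1 : LinearMap.range (X + Y).mulVecLin = LinearMap.range X.mulVecLin ⊔ LinearMap.range Y.mulVecLin := by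
    refine le_antisymm ?_ (sup_le ?_ ?_)
    · rintro _ ⟨v, rfl⟩
      rw [mulVecLin_apply, add_mulVec]
      exact Submodule.add_mem_sup ⟨v, rfl⟩ ⟨v, rfl⟩
    · rintro _ ⟨v, rfl⟩
      exact ⟨ε *ᵥ v, by rw [mulVecLin_apply, mulVecLin_apply, mulVec_mulVec, add_mul, h2, h4, add_zero]⟩
    · rintro _ ⟨v, rfl⟩
      refine ⟨(1 - ε) *ᵥ v, ?_⟩
      rw [mulVecLin_apply, mulVecLin_apply, mulVec_mulVec, mul_sub, mul_one, add_mul, h2, h4, add_zero,
        add_sub_cancel_left]
  have e2 : LinearMap.range X.mulVecLin ⊓ LinearMap.range Y.mulVecLin = ⊥ := by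
    rw [eq_bot_iff]
    rintro _ ⟨⟨v, rfl⟩, w, hw⟩
    rw [mulVecLin_apply, mulVecLin_apply] at hw
    rw [Submodule.mem_bot, mulVecLin_apply, ← h1, ← mulVec_mulVec, ← hw, mulVec_mulVec, h3, zero_mulVec]
  have := Submodule.finrank_sup_add_finrank_inf_eq (LinearMap.range X.mulVecLin) (LinearMap.range Y.mulVecLin)
  rw [e2, finrank_bot, add_zero, ← e1] at this
  exact this

/-- orthogonal idempotents -/
theorem rank_add_idem {e f : Matrix ι ι F} (he : e * e = e) (h1 : e * f = 0) (h2 : f * e = 0) :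
    (e + f).rank = e.rank + f.rank := rank_add_of_idem he he h1 h2

theorem rank_one_sub {e : Matrix ι ι F} (he : e * e = e) : e.rank + (1 - e).rank = Fintype.card ι := by
  rw [← rank_add_idem he (by rw [mul_sub, mul_one, he, sub_self]) (by rw [sub_mul, one_mul, he, sub_self]),
    add_sub_cancel, rank_one]

/-- `[V, u]` is the image of `1 - av u` -/
theorem rank_sub_one {N : ℕ} (hN : (N : F) ≠ 0) {u : Matrix ι ι F} (hu : u ^ N = 1) :
    (u - 1).rank = (1 - av F N u).rank := by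
  apply le_antisymm
  · have : u - 1 = (1 - av F N u) * (u - 1) := by
      rw [sub_mul, one_mul, mul_sub, av_mul hu, mul_one, sub_self, sub_zero]
    conv_lhs => rw [this]
    exact rank_mul_le_left _ _
  · obtain ⟨T, -, hT⟩ := exists_one_sub_av (F := F) hN u
    rw [hT]
    exact rank_mul_le_left _ _

end rank

section span

variable {p : ℕ} [hp : Fact p.Prime] {Y X : Type*} [Group Y] [Finite Y] [Group X] {A : Type*} [Ring A]
  {j : Y →* Aˣ} {π : Y →* X}

/-- the span principle, bicommutant form -/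
theorem bicomm_KK (hj : Function.Injective j) (hπ : Function.Surjective π) (hc : π.ker ≤ Subgroup.center Y)
    {P : Subgroup Y} (hP : IsPGroup p P) {x : Y}
    (hx : ∀ a : A, (∀ d ∈ P, Commute a (j d : Aˣ)) → Commute a (j x : Aˣ)) : π x ∈ KK p (P.map π) := by
  refine map_mem_KK hπ hc hP (bicent_le_KK P (Subgroup.mem_centralizer_iff.2 fun y hy => hj (Units.ext ?_)))
  rw [map_mul, map_mul, Units.val_mul, Units.val_mul]
  refine (hx _ fun d hd => ?_).eq
  have := congrArg (fun t => ((j t : Aˣ) : A)) (Subgroup.mem_centralizer_iff.1 hy d hd)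
  simp only [map_mul, Units.val_mul] at this
  exact this.symm

/-- **the span principle** -/
theorem span_KK (F : Type*) [Field F] [Algebra F A] (hj : Function.Injective j) (hπ : Function.Surjective π)
    (hc : π.ker ≤ Subgroup.center Y) {P : Subgroup Y} (hP : IsPGroup p P) {x : Y}
    (hx : ((j x : Aˣ) : A) ∈ Algebra.adjoin F ((fun d => ((j d : Aˣ) : A)) '' (P : Set Y))) :
    π x ∈ KK p (P.map π) := by
  refine bicomm_KK hj hπ hc hP fun a ha => Algebra.commute_of_mem_adjoin_of_forall_mem_commute hx ?_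
  rintro _ ⟨d, hd, rfl⟩
  exact ha d hd

omit [Finite Y] in
theorem pElt_of_pow {u : X} {k : ℕ} (h : u ^ p ^ k = 1) : PElt p u := by
  obtain ⟨l, -, hl⟩ := (Nat.dvd_prime_pow hp.out).1 (orderOf_dvd_of_pow_eq_one h)
  exact ⟨l, hl⟩

omit hp [Finite Y] in
theorem pow_of_pElt {u : X} (h : PElt p u) : ∃ k : ℕ, u ^ p ^ k = 1 := by
  obtain ⟨k, hk⟩ := h
  exact ⟨k, hk ▸ pow_orderOf_eq_one u⟩

omit [Finite Y] in
/-- `p`-elements lift uniquely -/
theorem eq_of_pelt (h : CentPP p π) {a b : Y} {n m : ℕ} (ha : a ^ p ^ n = 1) (hb : b ^ p ^ m = 1) (hab : π a = π b) :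
    a = b := by
  have hc : Commute a b⁻¹ := (show Commute a b from h.comm_of_pelt ha (by rw [hab])).inv_right
  refine mul_inv_eq_one.1 (h.eq_one (n := n + m) (by rw [map_mul, map_inv, hab, mul_inv_cancel]) ?_)
  rw [hc.mul_pow, inv_pow, pow_add, pow_mul a, ha, one_pow, mul_comm (p ^ n), pow_mul b, hb, one_pow, inv_one, mul_one]

theorem exists_lift (hπ : Function.Surjective π) {Q : Subgroup X} (hQ : IsPGroup p Q) :
    ∃ P : Subgroup Y, IsPGroup p P ∧ P.map π = Q := by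
  obtain ⟨P, h1, -, h2⟩ := exists_lift_pgroup hπ (D := ⊥) IsPGroup.of_bot hQ (by simp)
  exact ⟨P, h1, h2⟩

/-- a nontrivial central element -/
theorem exists_central {P : Subgroup Y} (hP : IsPGroup p P) (h : P ≠ ⊥) : ∃ z ∈ P, z ≠ 1 ∧ ∀ d ∈ P, Commute z d := by
  have : Nontrivial P := (Subgroup.nontrivial_iff_ne_bot P).2 h
  obtain ⟨z, hz, h1⟩ := (Subgroup.nontrivial_iff_exists_ne_one _).1 (IsPGroup.center_nontrivial hP)
  exact ⟨z, z.2, fun e => h1 (Subtype.ext e), fun d hd =>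
    (congrArg Subtype.val (Subgroup.mem_center_iff.1 hz ⟨d, hd⟩)).symm⟩

omit hp [Finite Y] in
theorem exists_not_mem_zpowers {P : Subgroup Y} (h : ¬ IsCyclic P) {z : Y} (hz : z ∈ P) :
    ∃ b ∈ P, b ∉ Subgroup.zpowers z := by
  by_contra hc
  push Not at hc
  exact h (by rw [le_antisymm hc (Subgroup.zpowers_le.2 hz)]; infer_instance)

end span

section semi

variable {F : Type*} [Field F] {ι : Type*} [Fintype ι] [DecidableEq ι]

/-- `s ↦ g σ(s) g⁻¹` -/
def sc (g : GL ι F) (σ : F ≃+* F) : GL ι F →* GL ι F :=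
  (MulAut.conj g).toMonoidHom.comp (Matrix.GeneralLinearGroup.map (σ : F →+* F))

theorem val_sc (g : GL ι F) (σ : F ≃+* F) (s : GL ι F) : (sc g σ s : Matrix ι ι F) =
    (g : Matrix ι ι F) * (s : Matrix ι ι F).map σ * ((g⁻¹ : GL ι F) : Matrix ι ι F) := rfl

theorem sc_sc (g h : GL ι F) (σ τ : F ≃+* F) (s : GL ι F) :
    sc g σ (sc h τ s) = sc (g * Matrix.GeneralLinearGroup.map (σ : F →+* F) h) (τ.trans σ) s := by
  have : Matrix.GeneralLinearGroup.map ((τ.trans σ : F ≃+* F) : F →+* F) s =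
      Matrix.GeneralLinearGroup.map (σ : F →+* F) (Matrix.GeneralLinearGroup.map (τ : F →+* F) s) := Units.ext rfl
  simp only [sc, MonoidHom.comp_apply, MulEquiv.coe_toMonoidHom, MulAut.mul_apply, MulAut.conj_apply, map_mul,
    map_inv, this]

theorem sc_one (s : GL ι F) : sc 1 (RingEquiv.refl F) s = s := Units.ext (by
  rw [val_sc]
  ext i j
  simp)

theorem sc_inv (g : GL ι F) (σ : F ≃+* F) (s : GL ι F) :
    sc (Matrix.GeneralLinearGroup.map (σ.symm : F →+* F) g⁻¹) σ.symm (sc g σ s) = s := by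
  rw [sc_sc, ← map_mul, inv_mul_cancel, map_one, RingEquiv.self_trans_symm, sc_one]

theorem sc_injective (g : GL ι F) (σ : F ≃+* F) : Function.Injective (sc g σ) :=
  Function.LeftInverse.injective (sc_inv g σ)

theorem rank_sc (g : GL ι F) (σ : F ≃+* F) (s : GL ι F) :
    ((sc g σ s : Matrix ι ι F) - 1).rank = ((s : Matrix ι ι F) - 1).rank := by
  rw [← rank_map_equiv σ ((s : Matrix ι ι F) - 1), ← rank_conj g (Matrix.map _ _), val_sc, Matrix.map_sub _ (map_sub σ),
    Matrix.map_one _ (map_zero σ) (map_one σ), mul_sub, sub_mul, mul_one, Units.mul_inv]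

variable {Y X : Type*} [Group Y] [Group X]

/-- the automorphisms of `X` which lift to semilinear automorphisms of `Y` -/
def Semi (j : Y →* GL ι F) (π : Y →* X) : Subgroup (MulAut X) where
  carrier := {α | ∃ (β : MulAut Y) (g : GL ι F) (σ : F ≃+* F), (∀ y, j (β y) = sc g σ (j y)) ∧ ∀ y, α (π y) = π (β y)}
  one_mem' := ⟨1, 1, RingEquiv.refl F, fun y => (sc_one _).symm, fun _ => rfl⟩
  mul_mem' := by
    rintro α α' ⟨β, g, σ, h1, h2⟩ ⟨β', g', σ', h1', h2'⟩
    exact ⟨β * β', _, _, fun y => by rw [MulAut.mul_apply, h1, h1', sc_sc],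
      fun y => by rw [MulAut.mul_apply, h2', h2, MulAut.mul_apply]⟩
  inv_mem' := by
    rintro α ⟨β, g, σ, h1, h2⟩
    refine ⟨β⁻¹, Matrix.GeneralLinearGroup.map (σ.symm : F →+* F) g⁻¹, σ.symm, fun y => ?_, fun y => ?_⟩
    · rw [← sc_inv g σ (j (β⁻¹ y)), ← h1, MulAut.apply_inv_self]
    · apply α.injective
      rw [MulAut.apply_inv_self, h2, MulAut.apply_inv_self]

theorem mem_Semi [Finite Y] {j : Y →* GL ι F} (hj : Function.Injective j) {π : Y →* X} {α : MulAut X} {g : GL ι F}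
    {σ : F ≃+* F} (h1 : ∀ y, sc g σ (j y) ∈ j.range) (h2 : ∀ y y', j y' = sc g σ (j y) → α (π y) = π y') :
    α ∈ Semi j π := by
  choose f hf using h1
  let β : Y →* Y := MonoidHom.mk' f fun a b => hj (by rw [map_mul, hf, hf, hf, map_mul, map_mul])
  have hβ : Function.Injective β := fun a b e => hj (sc_injective g σ (by rw [← hf, ← hf]; exact congrArg j e))
  exact ⟨MulEquiv.ofBijective β (Finite.injective_iff_bijective.1 hβ), g, σ, hf, fun y => h2 y _ (hf y)⟩

variable {p : ℕ} [hp : Fact p.Prime] {j : Y →* GL ι F} {π : Y →* X}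

/-- conjugate `p`-elements have semilinearly conjugate lifts -/
theorem Semi.exists_sc (hc : CentPP p π) {α : MulAut X} (hα : α ∈ Semi j π) {a b : Y} {n m : ℕ} (ha : a ^ p ^ n = 1)
    (hb : b ^ p ^ m = 1) (h : α (π a) = π b) : ∃ g σ, j b = sc g σ (j a) := by
  obtain ⟨β, g, σ, h1, h2⟩ := hα
  refine ⟨g, σ, ?_⟩
  rw [← h1, eq_of_pelt hc hb (b := β a) (m := n) (by rw [← map_pow, ha, map_one]) (by rw [← h, h2])]

theorem Semi.rank_eq (hc : CentPP p π) {α : MulAut X} (hα : α ∈ Semi j π) {a b : Y} {n m : ℕ} (ha : a ^ p ^ n = 1)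
    (hb : b ^ p ^ m = 1) (h : α (π a) = π b) :
    ((j b : Matrix ι ι F) - 1).rank = ((j a : Matrix ι ι F) - 1).rank := by
  obtain ⟨g, σ, e⟩ := Semi.exists_sc hc hα ha hb h
  rw [e, rank_sc]

end semi

section frame

variable {F : Type*} [Field F] {ι : Type*} [Fintype ι] [DecidableEq ι] {Y X : Type*} [Group Y] [Group X]

/-- `X ← Y ↪ Γ ≤ GL`, `Γ` closed under cuts, `Y` contains the `p`-elements of `Γ`, the kernel is a central
`p'`-group -/
structure Frame (p : ℕ) (Γ : Subgroup (GL ι F)) (j : Y →* GL ι F) (π : Y →* X) : Prop where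
  hF : (p : F) ≠ 0
  inj : Function.Injective j
  le : ∀ y, j y ∈ Γ
  cut : CutClosed p F Γ
  pel : ∀ g ∈ Γ, ∀ k : ℕ, g ^ p ^ k = 1 → g ∈ j.range
  surj : Function.Surjective π
  cpp : CentPP p π

variable {p : ℕ} [hp : Fact p.Prime] [Finite Y] {Γ : Subgroup (GL ι F)} {j : Y →* GL ι F} {π : Y →* X}

omit [Finite Y] in
theorem pow_of_pure (hc : CentPP p π) {A : Subgroup (MulAut X)} {Q : Subgroup X} (H : Pure p X A Q) {y : Y} {n : ℕ}
    (hy : y ^ p ^ n = 1) (hK : π y ∈ KK p Q) : y ^ p = 1 :=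
  hc.eq_one (n := n) (by rw [map_pow]; exact H.expo _ hK (pElt_of_pow (k := n) (by rw [← map_pow, hy, map_one])))
    (by rw [← pow_mul, mul_comm, pow_mul, hy, one_pow])

omit [Finite Y] in
theorem pow_of_mem (hc : CentPP p π) {A : Subgroup (MulAut X)} {P : Subgroup Y} (hP : IsPGroup p P)
    (H : Pure p X A (P.map π)) {y : Y} (hy : y ∈ P) : y ^ p = 1 := by
  obtain ⟨n, hn⟩ := hP ⟨y, hy⟩
  exact pow_of_pure hc H (congrArg Subtype.val hn) (self_le_KK _ ⟨y, hy, rfl⟩)

omit hp [Finite Y] in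
theorem not_cyclic {A : Subgroup (MulAut X)} {P : Subgroup Y} (H : Pure p X A (P.map π)) : ¬ IsCyclic P := fun _ =>
  H.nc (isCyclic_of_surjective (π.subgroupMap P) (π.subgroupMap_surjective P))

namespace Frame

variable (h : Frame p Γ j π)
include h

omit [Finite Y] in
theorem pair {z b : Y} (hz : z ^ p = 1) (hb : b ^ p = 1) (hzb : Commute z b) : Pair p F (j z) (j b) :=
  ⟨h.hF, by rw [← map_pow, hz, map_one], by rw [← map_pow, hb, map_one], hzb.map j⟩

omit [Finite Y] in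
theorem ne_one {z : Y} (hz : z ≠ 1) : j z ≠ 1 := fun e => hz (h.inj (e.trans (map_one j).symm))

omit [Finite Y] in
theorem not_mem {z b : Y} (hb : b ∉ Subgroup.zpowers z) : j b ∉ Subgroup.zpowers (j z) := by
  rintro ⟨k, hk⟩
  exact hb ⟨k, h.inj ((map_zpow j z k).trans hk)⟩

/-- a subgroup `p × p` through a central element -/
theorem exists_pair {A : Subgroup (MulAut X)} {P : Subgroup Y} (hP : IsPGroup p P) (H : Pure p X A (P.map π)) :
    ∃ z ∈ P, ∃ b ∈ P, z ≠ 1 ∧ b ∉ Subgroup.zpowers z ∧ (∀ d ∈ P, Commute z d) ∧ Pair p F (j z) (j b) := by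
  obtain ⟨z, hz, h1, h2⟩ := exists_central hP (by
    rintro rfl
    exact not_cyclic H inferInstance)
  obtain ⟨b, hb, h3⟩ := exists_not_mem_zpowers (not_cyclic H) hz
  exact ⟨z, hz, b, hb, h1, h3, h2, h.pair (pow_of_mem h.cpp hP H hz) (pow_of_mem h.cpp hP H hb) (h2 b hb)⟩

theorem span {P : Subgroup Y} (hP : IsPGroup p P) {x : Y} (hx : ((j x : GL ι F) : Matrix ι ι F) ∈
    Algebra.adjoin F ((fun d => ((j d : GL ι F) : Matrix ι ι F)) '' (P : Set Y))) : π x ∈ KK p (P.map π) :=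
  span_KK F h.inj h.surj h.cpp.cent hP hx

omit [Finite Y] in
/-- the element `u` acting as `gen k` on `W i` and trivially on the complement -/
theorem exists_u {z b : Y} (H : Pair p F (j z) (j b)) {i k : Option (ZMod p)} (hik : k ≠ i) :
    ∃ u : Y, (j u : Matrix ι ι F) = gen (j z) (j b) k * W F (j z) (j b) i + (1 - W F (j z) (j b) i) ∧ u ^ p = 1 ∧
      av F p (j u : Matrix ι ι F) = 1 - W F (j z) (j b) i ∧
      ((j u : Matrix ι ι F) - 1).rank = (W F (j z) (j b) i).rank ∧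
      ∀ S : Subalgebra F (Matrix ι ι F), (j z : Matrix ι ι F) ∈ S → (j b : Matrix ι ι F) ∈ S →
        (j u : Matrix ι ι F) ∈ S := by
  obtain ⟨u, hu, h1, h2, h3⟩ := H.exists_u h.cut (h.le z) (h.le b) hik
  obtain ⟨u, rfl⟩ := h.pel u hu 1 (by rw [pow_one, h2])
  refine ⟨u, h1, h.inj (by rw [map_pow, h2, map_one]), h3, ?_, fun S hz hb => ?_⟩
  · rw [rank_sub_one h.hF (val_pow_one h2), h3, sub_sub_cancel]
  · rw [h1]
    exact S.add_mem (S.mul_mem (val_gen_mem hz hb k) (W_mem hz hb i)) (S.sub_mem S.one_mem (W_mem hz hb i))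

/-- two nontrivial elements of order `p` in the span of `B` with different ranks -/
theorem exists_two {z b : Y} (H : Pair p F (j z) (j b)) (hz : z ≠ 1) (hb : b ∉ Subgroup.zpowers z) :
    ∃ u v : Y, u ≠ 1 ∧ v ≠ 1 ∧ u ^ p = 1 ∧ v ^ p = 1 ∧
      ((j u : Matrix ι ι F) - 1).rank < ((j v : Matrix ι ι F) - 1).rank ∧
      ∀ S : Subalgebra F (Matrix ι ι F), (j z : Matrix ι ι F) ∈ S → (j b : Matrix ι ι F) ∈ S →
        (j u : Matrix ι ι F) ∈ S ∧ (j v : Matrix ι ι F) ∈ S := by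
  obtain ⟨i, k, hik, hi, hk⟩ := H.two_W (h.ne_one hz) (h.not_mem hb)
  obtain ⟨u, u1, u2, -, u3, u4⟩ := h.exists_u H hik.symm
  obtain ⟨w, w1, w2, -, w3, w4⟩ := h.exists_u H hik
  have e1 := H.W_idem i
  have e2 := H.W_idem k
  have e3 := H.W_mul_W hik
  have e4 := H.W_mul_W hik.symm
  have c1 := (H.gen_W k i).eq
  have c2 := (H.gen_W i k).eq
  have c3 := (H.gen_W i i).eq
  have c4 := (H.gen_W k k).eq
  generalize W F (j z) (j b) i = e at *
  generalize W F (j z) (j b) k = f at *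
  generalize ((gen (j z) (j b) i : GL ι F) : Matrix ι ι F) = x at *
  generalize ((gen (j z) (j b) k : GL ι F) : Matrix ι ι F) = y at *
  have u5 : (j u : Matrix ι ι F) - 1 = (y - 1) * e := by rw [u1]; noncomm_ring
  have w5 : (j w : Matrix ι ι F) - 1 = (x - 1) * f := by rw [w1]; noncomm_ring
  have a1 : e * ((y - 1) * e) = (y - 1) * e := by
    rw [← mul_assoc, mul_sub, ← c1, mul_one, sub_mul, mul_assoc, e1, sub_mul, one_mul]
  have a2 : (y - 1) * e * e = (y - 1) * e := by rw [mul_assoc, e1]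
  have a3 : e * ((x - 1) * f) = 0 := by
    rw [← mul_assoc, mul_sub, ← c3, mul_one, sub_mul, mul_assoc, e3, mul_zero, sub_self]
  have a4 : (x - 1) * f * e = 0 := by rw [mul_assoc, e4, mul_zero]
  have a5 : f * ((y - 1) * e) = 0 := by
    rw [← mul_assoc, mul_sub, ← c4, mul_one, sub_mul, mul_assoc, e4, mul_zero, sub_self]
  have m1 : ((j u : Matrix ι ι F) - 1) * ((j w : Matrix ι ι F) - 1) = 0 := by rw [u5, w5, mul_assoc, a3, mul_zero]
  have m2 : ((j w : Matrix ι ι F) - 1) * ((j u : Matrix ι ι F) - 1) = 0 := by rw [u5, w5, mul_assoc, a5, mul_zero]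
  have m3 : (j (u * w) : Matrix ι ι F) - 1 = ((j u : Matrix ι ι F) - 1) + ((j w : Matrix ι ι F) - 1) := by
    rw [map_mul, Units.val_mul, ← add_zero (_ + _), ← m1]
    noncomm_ring
  have m4 : (j (w * u) : Matrix ι ι F) - 1 = ((j u : Matrix ι ι F) - 1) + ((j w : Matrix ι ι F) - 1) := by
    rw [map_mul, Units.val_mul, ← add_zero (_ + _), ← m2]
    noncomm_ring
  have hc : Commute u w := h.inj (Units.ext (sub_left_inj.1 (m3.trans m4.symm)))
  have r1 : ((j (u * w) : Matrix ι ι F) - 1).rank = e.rank + f.rank := by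
    rw [m3, ← u3, ← w3, u5, w5, rank_add_of_idem a1 a2 a3 a4]
  have p1 : 0 < e.rank := Nat.pos_of_ne_zero fun e => hi (eq_zero_of_rank e)
  have p2 : 0 < f.rank := Nat.pos_of_ne_zero fun e => hk (eq_zero_of_rank e)
  refine ⟨u, u * w, ?_, ?_, u2, by rw [hc.mul_pow, u2, w2, one_mul], by omega, fun S s1 s2 => ⟨u4 S s1 s2, ?_⟩⟩
  · rintro rfl
    rw [map_one, Units.val_one, sub_self, rank_zero] at u3
    omega
  · intro e
    rw [e, map_one, Units.val_one, sub_self, rank_zero] at r1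
    omega
  · rw [map_mul, Units.val_mul]
    exact S.mul_mem (u4 S s1 s2) (w4 S s1 s2)

/-- **the core of FS and FO** -/
theorem not_pure {A : Subgroup (MulAut X)} (hA : A ≤ Semi j π) (Q : Subgroup X) : ¬ Pure p X A Q := by
  intro H
  obtain ⟨P, hP, rfl⟩ := exists_lift h.surj H.pg
  obtain ⟨z, hz, b, hb, h1, h2, -, h3⟩ := h.exists_pair hP H
  obtain ⟨u, v, u1, v1, u2, v2, hr, hS⟩ := h.exists_two h3 h1 h2
  obtain ⟨s1, s2⟩ := hS (Algebra.adjoin F ((fun d => ((j d : GL ι F) : Matrix ι ι F)) '' (P : Set Y)))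
    (Algebra.subset_adjoin ⟨z, hz, rfl⟩) (Algebra.subset_adjoin ⟨b, hb, rfl⟩)
  rw [← pow_one p] at u2 v2
  obtain ⟨α, hα, e⟩ := H.conj _ (h.span hP s1) _ (h.span hP s2)
    (pElt_of_pow (k := 1) (by rw [← map_pow, u2, map_one])) (pElt_of_pow (k := 1) (by rw [← map_pow, v2, map_one]))
    (fun e => u1 (h.cpp.eq_one e u2)) (fun e => v1 (h.cpp.eq_one e v2))
  exact hr.ne' (Semi.rank_eq h.cpp (hA hα) u2 v2 e)

end Frame

end frame

end Cfsg.Agent.TO.FO
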