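import Cfsg.Agent.TO.FO.Box
import Cfsg.Agent.LieClassical.OrthForms
import Cfsg.Agent.S2693
import Cfsg.Agent.S2694
import Cfsg.Agent.S2695
import Cfsg.Agent.S2696

/-!
# S4817: the rows psp, oodd, oplus, ominus
-/

set_option autoImplicit false

namespace Cfsg.Agent.TO.FO

open Cfsg Cfsg.Agent.LieClassical.OrthForms

theorem rowPsp (B : Blk) (h4 : BoxS4) :
    RowFor (fun p S _ => ∃ (F : Type) (_ : Field F) (_ : Fintype F) (m : ℕ), (p : F) ≠ 0 ∧
      2 ≤ m ∧ (m = 2 → 3 ≤ Fintype.card F) ∧ Nonempty (S ≃* PSp m F)) := by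
  rintro p _ - S _ _ _ - ⟨F, _, _, m, hF, hm, hm2, ⟨e⟩⟩
  refine Row.of_equiv e ?_
  obtain ⟨r, hr⟩ := CharP.exists F
  have : Fact r.Prime := ⟨CharP.char_is_prime F r⟩
  by_cases h : m = 2 ∧ r = 2
  · obtain ⟨rfl, rfl⟩ := h
    exact h4 p F (hm2 rfl)
  · exact B.row_of_pure fun A Q => boxFS p F m hF A Q
      (by rw [S2693.result (p := r) hm fun h1 h2 => h ⟨h1, h2⟩]; exact le_top)

theorem row_of_form (B : Blk) {p : ℕ} [Fact p.Prime] {F : Type} [Field F] [Fintype F] {ι : Type} [Fintype ι]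
    [DecidableEq ι] (R : QuadraticMap F (ι → F) F) {R' : (ι → F) → F} (e : ⇑R = R') (hF : (p : F) ≠ 0)
    (h5 : 5 ≤ Fintype.card ι) (hR : ∀ v, (∀ w, QuadraticMap.polar R v w = 0) → v = 0) (h : gammaPOmega F R' = ⊤) :
    Row p (POmega F R') := by
  subst e
  exact B.row_of_pure fun A Q => boxFO p F ι R hF h5 hR A Q (by rw [h]; exact le_top)

theorem rowOodd (B : Blk) :
    RowFor (fun p S _ => ∃ (F : Type) (_ : Field F) (_ : Fintype F) (m : ℕ), (p : F) ≠ 0 ∧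
      3 ≤ m ∧ Odd (Fintype.card F) ∧ Nonempty (S ≃* POmega F (quadFormOdd m F))) := by
  rintro p _ - S _ _ _ - ⟨F, _, _, m, hF, hm, hodd, ⟨e⟩⟩
  exact Row.of_equiv e (row_of_form B (oddForm m F) (coe_oddForm m F) hF (by simp; omega)
    (nondeg_oddForm m F (LieClassical.PomegaCard.odd_card_iff.1 hodd)) (S2694.result hodd hm))

theorem rowOminus (B : Blk) :
    RowFor (fun p S _ => ∃ (F : Type) (_ : Field F) (_ : Fintype F) (m : ℕ) (a b : F),
      (p : F) ≠ 0 ∧ 4 ≤ m ∧ (∀ z₁ z₂ : F, z₁ ^ 2 + a * z₁ * z₂ + b * z₂ ^ 2 = 0 → z₁ = 0 ∧ z₂ = 0) ∧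
      Nonempty (S ≃* POmega F (quadFormMinus (m - 1) F a b))) := by
  rintro p _ - S _ _ _ - ⟨F, _, _, m, a, b, hF, hm, hab, ⟨e⟩⟩
  exact Row.of_equiv e (row_of_form B (minusForm (m - 1) F a b) (coe_minusForm _ F a b) hF (by simp; omega)
    (nondeg_minusForm _ F a b hab) (S2696.result (by omega) a b hab))

theorem row_D4 (hA : BoxD4A) (hB : BoxD4B) (hC : BoxD4C) {p : ℕ} [Fact p.Prime] {F : Type} [Field F] [Fintype F]
    (hF : (p : F) ≠ 0) : Row p (POmega F (quadFormPlus 4 F)) := by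
  intro G _ _ σ M b D H
  obtain ⟨rfl, σ', H', hS⟩ := hA p F hF G σ M b D H
  rcases Nat.even_or_odd (Fintype.card F) with h | h
  · exact hC F h G σ' M b D H' hS
  · exact hB F h G σ' M b D H' hS

theorem rowOplus (B : Blk) (hA : BoxD4A) (hB : BoxD4B) (hC : BoxD4C) :
    RowFor (fun p S _ => ∃ (F : Type) (_ : Field F) (_ : Fintype F) (m : ℕ), (p : F) ≠ 0 ∧
      4 ≤ m ∧ Nonempty (S ≃* POmega F (quadFormPlus m F))) := by
  rintro p _ - S _ _ _ - ⟨F, _, _, m, hF, hm, ⟨e⟩⟩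
  refine Row.of_equiv e ?_
  rcases hm.eq_or_lt with rfl | h
  · exact row_D4 hA hB hC hF
  · exact row_of_form B (plusForm m F) (coe_plusForm m F) hF (by simp; omega) (nondeg_plusForm m F) (S2695.result h)

end Cfsg.Agent.TO.FO
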